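import Groth.Agent.GrModX.QCohTilde
import Groth.Agent.AModX.Res

/-!
# The fractions `a / g ^ i` on the standard opens of degree one
-/

noncomputable section

universe u

open CategoryTheory AlgebraicGeometry TopologicalSpace Opposite HomogeneousLocalization
open Groth.Agent.AModX

namespace Groth.Agent.Eg2Gamma

variable {A σ : Type u} [CommRing A] [SetLike σ A] [AddSubgroupClass σ A] (𝒜 : ℕ → σ) [GradedRing 𝒜]

/-- Sections of the structure sheaf are determined by their values. -/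
lemma oext {W : (Proj 𝒜).Opens} {c c' : Γ(Proj 𝒜, W)}
    (h : ∀ y : W, (GrModX.oval 𝒜 c y).val = (GrModX.oval 𝒜 c' y).val) : c = c' :=
  Subtype.ext (funext fun y => HomogeneousLocalization.val_injective _ (h y))

variable {g h : A} (hg : g ∈ 𝒜 1) (hh : h ∈ 𝒜 1) {W W' : (Proj 𝒜).Opens}

/-- `a / g ^ i` on an open where `g` does not vanish. -/
def frac (hW : W ≤ Proj.basicOpen 𝒜 g) {i : ℕ} {a : A} (ha : a ∈ 𝒜 i) : Γ(Proj 𝒜, W) :=
  resR hW (Proj.awayToSection 𝒜 g (Away.mk 𝒜 hg i a (by simpa using ha)))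

lemma val_frac (hW : W ≤ Proj.basicOpen 𝒜 g) {i : ℕ} {a : A} (ha : a ∈ 𝒜 i) (y : W) :
    (GrModX.oval 𝒜 (frac 𝒜 hg hW ha) y).val =
      Localization.mk a ⟨g ^ i, GrModX.pow_notMem y.1.isPrime (hW y.2) i⟩ := rfl

lemma oval_mul (c c' : Γ(Proj 𝒜, W)) (y : W) :
    (GrModX.oval 𝒜 (c * c') y).val = (GrModX.oval 𝒜 c y).val * (GrModX.oval 𝒜 c' y).val :=
  HomogeneousLocalization.val_mul _ _

lemma oval_add (c c' : Γ(Proj 𝒜, W)) (y : W) :
    (GrModX.oval 𝒜 (c + c') y).val = (GrModX.oval 𝒜 c y).val + (GrModX.oval 𝒜 c' y).val :=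
  HomogeneousLocalization.val_add _ _

lemma oval_one (y : W) : (GrModX.oval 𝒜 (1 : Γ(Proj 𝒜, W)) y).val = 1 :=
  HomogeneousLocalization.val_one

lemma res_frac (hW : W ≤ Proj.basicOpen 𝒜 g) (e : W' ≤ W) {i : ℕ} {a : A} (ha : a ∈ 𝒜 i) :
    resR e (frac 𝒜 hg hW ha) = frac 𝒜 hg (e.trans hW) ha := rfl

lemma frac_congr (hW : W ≤ Proj.basicOpen 𝒜 g) {i j : ℕ} (e : i = j) {a b : A} (e' : a = b)
    (ha : a ∈ 𝒜 i) (hb : b ∈ 𝒜 j) : frac 𝒜 hg hW ha = frac 𝒜 hg hW hb := by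
  subst e; subst e'; rfl

lemma frac_add (hW : W ≤ Proj.basicOpen 𝒜 g) {i : ℕ} {a b : A} (ha : a ∈ 𝒜 i) (hb : b ∈ 𝒜 i) :
    frac 𝒜 hg hW (add_mem ha hb) = frac 𝒜 hg hW ha + frac 𝒜 hg hW hb :=
  oext 𝒜 fun y => by
    rw [oval_add, val_frac, val_frac, val_frac, Localization.add_mk_self]

lemma frac_mul (hW : W ≤ Proj.basicOpen 𝒜 g) {i j : ℕ} {a b : A} (ha : a ∈ 𝒜 i) (hb : b ∈ 𝒜 j) :
    frac 𝒜 hg hW (SetLike.mul_mem_graded ha hb) = frac 𝒜 hg hW ha * frac 𝒜 hg hW hb :=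
  oext 𝒜 fun y => by
    rw [oval_mul, val_frac, val_frac, val_frac, Localization.mk_mul]
    congr 1
    exact Subtype.ext (pow_add g i j)

lemma frac_pow_self (hW : W ≤ Proj.basicOpen 𝒜 g) (i : ℕ) :
    frac 𝒜 hg hW (show g ^ i ∈ 𝒜 i by simpa using SetLike.pow_mem_graded i hg) = 1 :=
  oext 𝒜 fun y => by
    rw [oval_one, val_frac]
    exact Localization.mk_self ⟨g ^ i, GrModX.pow_notMem y.1.isPrime (hW y.2) i⟩

lemma frac_one (hW : W ≤ Proj.basicOpen 𝒜 g) :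
    frac 𝒜 hg hW (SetLike.GradedOne.one_mem (A := 𝒜)) = 1 :=
  (frac_congr 𝒜 hg hW rfl (pow_zero g).symm _ _).trans (frac_pow_self 𝒜 hg hW 0)

lemma frac_self (hW : W ≤ Proj.basicOpen 𝒜 g) : frac 𝒜 hg hW hg = 1 :=
  (frac_congr 𝒜 hg hW rfl (pow_one g).symm _ _).trans (frac_pow_self 𝒜 hg hW 1)

/-- Change of the denominator. -/
lemma frac_trans (hW : W ≤ Proj.basicOpen 𝒜 g) (hW' : W ≤ Proj.basicOpen 𝒜 h) {i : ℕ} {a : A}
    (ha : a ∈ 𝒜 i) : frac 𝒜 hg hW ha = frac 𝒜 hg hW hh ^ i * frac 𝒜 hh hW' ha :=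
  oext 𝒜 fun y => by
    rw [oval_mul, GrModX.oval_pow, HomogeneousLocalization.val_pow, val_frac, val_frac, val_frac,
      Localization.mk_pow, Localization.mk_mul, Localization.mk_eq_mk_iff, Localization.r_iff_exists]
    exact ⟨1, by simp; ring⟩

lemma isUnit_frac (hW : W ≤ Proj.basicOpen 𝒜 g) {i : ℕ} {a : A} (ha : a ∈ 𝒜 i)
    (hne : ∀ y : W, a ∉ y.1.asHomogeneousIdeal) : IsUnit (frac 𝒜 hg hW ha) := by
  refine isUnit_resR _ _ fun y hy => ?_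
  rw [GrModX.basicOpen_awayToSection]
  exact fun hh => (y.isPrime.mem_or_mem hh).elim (hW hy) (hne ⟨y, hy⟩)

lemma basicOpen_frac {i : ℕ} {a : A} (ha : a ∈ 𝒜 i) :
    (Proj 𝒜).basicOpen (frac 𝒜 hg (le_refl (Proj.basicOpen 𝒜 g)) ha) = Proj.basicOpen 𝒜 (g * a) := by
  rw [frac, resR_self, GrModX.basicOpen_awayToSection]

end Groth.Agent.Eg2Gamma
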