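import Groth.Agent.Eg2Gamma.Frac

/-!
# The morphism `M~ ⟶ F` defined by compatible families of values on the degree one charts
-/

noncomputable section

universe u

open CategoryTheory AlgebraicGeometry TopologicalSpace Opposite HomogeneousLocalization DirectSum
open Groth.Agent.AModX

set_option backward.isDefEq.respectTransparency false

namespace Groth.Agent.Eg2Gamma

variable {A σ : Type u} [CommRing A] [SetLike σ A] [AddSubgroupClass σ A] {𝒜 : ℕ → σ} [GradedRing 𝒜]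
variable {F : (Proj 𝒜).Modules} {ι : Type u} {g : ι → A} (hg : ∀ i, g i ∈ 𝒜 1)
variable {M τ : Type u} [AddCommGroup M] [Module A M] [SetLike τ M] [AddSubgroupClass τ M] (ℳ : ℕ → τ)

/-- Compatible values of the homogeneous elements of `M` on the charts. -/
structure Vals (F : (Proj 𝒜).Modules) where
  ev : ℕ → ∀ i, M →+ Γ(F, Proj.basicOpen 𝒜 (g i))
  smul : ∀ (j n : ℕ) (a : A) (ha : a ∈ 𝒜 j) (m : M), m ∈ ℳ n → ∀ i,
    ev (j + n) i (a • m) = frac 𝒜 (hg i) le_rfl ha • ev n i m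
  compat : ∀ (n : ℕ) (m : M), m ∈ ℳ n → ∀ (i l : ι) (W : (Proj 𝒜).Opens)
    (hi : W ≤ Proj.basicOpen 𝒜 (g i)) (hl : W ≤ Proj.basicOpen 𝒜 (g l)),
    AModX.res F hi (ev n i m) = frac 𝒜 (hg i) hi (hg l) ^ n • AModX.res F hl (ev n l m)

variable [SetLike.GradedSMul 𝒜 ℳ] {ℳ} {hg} (D : Vals hg ℳ F)

/-- A fraction representing a section of `M~` on a part of a chart. -/
structure Rep {W : (Proj 𝒜).Opens} (x : Γ(GrMod.tilde 𝒜 ℳ 0, W)) (W' : (Proj 𝒜).Opens) where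
  i : ι
  j : ℕ
  f : A
  m : M
  le : W' ≤ W
  leD : W' ≤ Proj.basicOpen 𝒜 (g i)
  f_mem : f ∈ 𝒜 j
  m_mem : m ∈ ℳ j
  ne : ∀ y : W', f ∉ y.1.asHomogeneousIdeal
  val_eq : ∀ y : W', GrMod.val x ⟨y.1, le y.2⟩ = LocalizedModule.mk m ⟨f, ne y⟩

/-- Restriction of a representation. -/
def Rep.res {W W' W'' : (Proj 𝒜).Opens} {x : Γ(GrMod.tilde 𝒜 ℳ 0, W)} (r : Rep (g := g) x W')
    (e : W'' ≤ W') : Rep (g := g) x W'' :=
  { r with
    le := e.trans r.le
    leD := e.trans r.leD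
    ne := fun y => r.ne ⟨y.1, e y.2⟩
    val_eq := fun y => r.val_eq ⟨y.1, e y.2⟩ }

/-- The equation saying that `t` is the value of the represented section. -/
def Eqn {W W' : (Proj 𝒜).Opens} {x : Γ(GrMod.tilde 𝒜 ℳ 0, W)} (r : Rep (g := g) x W')
    (t : Γ(F, W)) : Prop :=
  frac 𝒜 (hg r.i) r.leD r.f_mem • AModX.res F r.le t = AModX.res F r.leD (D.ev r.j r.i r.m)

lemma Eqn.res {W W' W'' : (Proj 𝒜).Opens} {x : Γ(GrMod.tilde 𝒜 ℳ 0, W)} {r : Rep (g := g) x W'}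
    {t : Γ(F, W)} (h : Eqn D r t) (e : W'' ≤ W') : Eqn D (r.res e) t := by
  have := congrArg (AModX.res F e) h
  simp only [res_smul, res_res, res_frac] at this
  exact this

variable [DirectSum.Decomposition ℳ]

lemma exists_homogeneous_compl {k : ℕ} {d : M} (hd : d ∈ ℳ k) (y : ProjectiveSpectrum 𝒜) {c : A}
    (hc : c ∉ y.asHomogeneousIdeal) (h : c • d = 0) :
    ∃ (l : ℕ) (b : A), b ∈ 𝒜 l ∧ b ∉ y.asHomogeneousIdeal ∧ b • d = 0 := by
  classical
  by_contra hh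
  push Not at hh
  refine hc ?_
  rw [← DirectSum.sum_support_decompose 𝒜 c]
  refine Ideal.sum_mem _ fun l _ => ?_
  by_contra hl
  exact hh l _ (SetLike.coe_mem _) hl (GrModX.proj_smul_eq_zero 𝒜 hd h l)

omit [DirectSum.Decomposition ℳ] [AddSubgroupClass τ M] [SetLike.GradedSMul 𝒜 ℳ] in
lemma res_ev_smul {W : (Proj 𝒜).Opens} {i : ι} (hW : W ≤ Proj.basicOpen 𝒜 (g i)) {j n : ℕ} {a : A}
    (ha : a ∈ 𝒜 j) {m : M} (hm : m ∈ ℳ n) :
    AModX.res F hW (D.ev (j + n) i (a • m)) = frac 𝒜 (hg i) hW ha • AModX.res F hW (D.ev n i m) := by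
  rw [D.smul j n a ha m hm i, res_smul, res_frac]

/-- The equation does not depend on the representation. -/
lemma eqn_transfer {W W' : (Proj 𝒜).Opens} {x : Γ(GrMod.tilde 𝒜 ℳ 0, W)} (r r' : Rep (g := g) x W')
    {t : Γ(F, W)} (h : Eqn D r t) : Eqn D r' t := by
  obtain ⟨i, j, f, m, hle, hi, hf, hm, hne, hv⟩ := r
  obtain ⟨i', j', f', m', hle', hi', hf', hm', hne', hv'⟩ := r'
  unfold Eqn at h ⊢
  simp only at h ⊢
  -- pass to the chart `i`
  have key : frac 𝒜 (hg i) hi hf' • AModX.res F hle t = AModX.res F hi (D.ev j' i m') := by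
    refine AModX.eq_of_locally _ _ fun y hy => ?_
    have h0 := (hv ⟨y, hy⟩).symm.trans (hv' ⟨y, hy⟩)
    rw [LocalizedModule.mk_eq] at h0
    obtain ⟨⟨c, hc⟩, hu⟩ := h0
    simp only [Submonoid.smul_def] at hu
    have hd : f' • m - f • m' ∈ ℳ (j' + j) := by
      refine sub_mem (SetLike.GradedSMul.smul_mem hf' hm) ?_
      have h2 := SetLike.GradedSMul.smul_mem (A := 𝒜) hf hm'
      rwa [vadd_eq_add, add_comm] at h2
    obtain ⟨l, b, hb, hby, hbd⟩ := exists_homogeneous_compl hd y hc (by rw [smul_sub, hu, sub_self])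
    let W'' := W' ⊓ Proj.basicOpen 𝒜 b
    have hW'' : W'' ≤ W' := inf_le_left
    refine ⟨W'', hW'', ⟨hy, hby⟩, ?_⟩
    have hi'' : W'' ≤ Proj.basicOpen 𝒜 (g i) := hW''.trans hi
    have h3 : frac 𝒜 (hg i) hi'' hb • (frac 𝒜 (hg i) hi'' hf' • AModX.res F hi'' (D.ev j i m) -
        frac 𝒜 (hg i) hi'' hf • AModX.res F hi'' (D.ev j' i m')) = 0 := by
      rw [← res_ev_smul D hi'' hf' hm, ← res_ev_smul D hi'' hf hm', show j + j' = j' + j from add_comm _ _,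
        ← map_sub, ← map_sub, ← res_ev_smul D hi'' hb hd, hbd, map_zero, map_zero]
    rw [(isUnit_frac 𝒜 (hg i) hi'' hb fun z => z.2.2).smul_eq_zero, sub_eq_zero] at h3
    have h4 := congrArg (AModX.res F hW'') h
    simp only [res_smul, res_res, res_frac] at h4
    rw [← h4, ← mul_smul, mul_comm, mul_smul,
      (isUnit_frac 𝒜 (hg i) hi'' hf fun z => hne ⟨z.1, z.2.1⟩).smul_left_cancel] at h3
    simp only [res_smul, res_res, res_frac]
    exact h3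
  rw [D.compat j' m' hm' i' i W' hi' hi, ← key, ← mul_smul,
    ← frac_trans 𝒜 (hg i') (hg i) hi' hi hf']

/-- `t` is the value of `x`. -/
def Rel {W : (Proj 𝒜).Opens} (x : Γ(GrMod.tilde 𝒜 ℳ 0, W)) (t : Γ(F, W)) : Prop :=
  ∀ p ∈ W, ∃ (W' : (Proj 𝒜).Opens) (r : Rep (g := g) x W'), p ∈ W' ∧ Eqn D r t

lemma Rel.apply {W W' : (Proj 𝒜).Opens} {x : Γ(GrMod.tilde 𝒜 ℳ 0, W)} {t : Γ(F, W)}
    (h : Rel D x t) (r : Rep (g := g) x W') : Eqn D r t := by
  refine AModX.eq_of_locally _ _ fun p hp => ?_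
  obtain ⟨W₁, r₁, hp₁, h₁⟩ := h p (r.le hp)
  refine ⟨W' ⊓ W₁, inf_le_left, ⟨hp, hp₁⟩, ?_⟩
  have := eqn_transfer D (r₁.res (inf_le_right : W' ⊓ W₁ ≤ W₁)) (r.res (inf_le_left : W' ⊓ W₁ ≤ W'))
    (h₁.res D _)
  unfold Eqn at this
  simp only [Rep.res] at this
  simp only [res_smul, res_res, res_frac]
  exact this

lemma rel_unique {W : (Proj 𝒜).Opens} {x : Γ(GrMod.tilde 𝒜 ℳ 0, W)} {t t' : Γ(F, W)}
    (h : Rel D x t) (h' : Rel D x t') : t = t' := by
  refine AModX.eq_of_locally _ _ fun p hp => ?_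
  obtain ⟨W', r, hp', h₁⟩ := h p hp
  have h₂ := h'.apply D r
  exact ⟨W', r.le, hp', (isUnit_frac 𝒜 (hg r.i) r.leD r.f_mem r.ne).smul_left_cancel.1 (h₁.trans h₂.symm)⟩

omit [DirectSum.Decomposition ℳ] in
lemma rel_res {W V : (Proj 𝒜).Opens} (e : V ≤ W) {x : Γ(GrMod.tilde 𝒜 ℳ 0, W)} {t : Γ(F, W)}
    (h : Rel D x t) : Rel D (AModX.res _ e x) (AModX.res F e t) := fun p hp => by
  obtain ⟨W', r, hp', h₁⟩ := h p (e hp)
  refine ⟨V ⊓ W', { r.res (inf_le_right : V ⊓ W' ≤ W') with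
    le := inf_le_left
    val_eq := fun y => (GrModX.val_res 𝒜 ℳ (homOfLE e) x ⟨y.1, y.2.1⟩).trans (r.val_eq ⟨y.1, y.2.2⟩) },
    ⟨hp, hp'⟩, ?_⟩
  have := h₁.res D (inf_le_right : V ⊓ W' ≤ W')
  unfold Eqn at this ⊢
  simp only [Rep.res] at this ⊢
  rw [res_res]
  exact this

lemma rel_add {W : (Proj 𝒜).Opens} {x x' : Γ(GrMod.tilde 𝒜 ℳ 0, W)} {t t' : Γ(F, W)}
    (h : Rel D x t) (h' : Rel D x' t') : Rel D (x + x') (t + t') := fun p hp => by
  obtain ⟨W₁, r₁, hp₁, h₁⟩ := h p hp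
  obtain ⟨W₂, r₂, hp₂, h₂⟩ := h' p hp
  let W' := W₁ ⊓ W₂
  have l₁ : W' ≤ W₁ := inf_le_left
  have l₂ : W' ≤ W₂ := inf_le_right
  have hi : W' ≤ Proj.basicOpen 𝒜 (g r₁.i) := l₁.trans r₁.leD
  -- move the second representation to the first chart
  let r₂' : Rep (g := g) x' W' :=
    { r₂.res l₂ with i := r₁.i, leD := hi }
  have h₂' : Eqn D r₂' t' := eqn_transfer D (r₂.res l₂) r₂' (h₂.res D l₂)
  have h₁' := h₁.res D l₁
  have hm : r₂.f • r₁.m ∈ ℳ (r₁.j + r₂.j) := by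
    have h2 := SetLike.GradedSMul.smul_mem (A := 𝒜) r₂.f_mem r₁.m_mem
    rwa [vadd_eq_add, add_comm] at h2
  refine ⟨W',
    { i := r₁.i, j := r₁.j + r₂.j, f := r₁.f * r₂.f, m := r₂.f • r₁.m + r₁.f • r₂.m
      le := l₁.trans r₁.le, leD := hi
      f_mem := SetLike.mul_mem_graded r₁.f_mem r₂.f_mem
      m_mem := add_mem hm (SetLike.GradedSMul.smul_mem r₁.f_mem r₂.m_mem)
      ne := fun y hh => (y.1.isPrime.mem_or_mem hh).elim (r₁.ne ⟨y.1, y.2.1⟩) (r₂.ne ⟨y.1, y.2.2⟩)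
      val_eq := fun y => ?_ }, ⟨hp₁, hp₂⟩, ?_⟩
  · change GrMod.val x _ + GrMod.val x' _ = _
    erw [r₁.val_eq ⟨y.1, y.2.1⟩, r₂.val_eq ⟨y.1, y.2.2⟩]
    rw [LocalizedModule.mk_add_mk]
    rfl
  · unfold Eqn at h₁' h₂' ⊢
    simp only [Rep.res, r₂'] at h₁' h₂' ⊢
    have e₁ := res_ev_smul D hi r₁.f_mem r₂.m_mem
    have e₂ := res_ev_smul D hi r₂.f_mem r₁.m_mem
    rw [add_comm r₂.j r₁.j] at e₂
    simp only [map_add]
    refine Eq.trans ?_ (congrArg₂ (· + ·) e₂ e₁).symm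
    rw [frac_mul 𝒜 (hg r₁.i) hi r₁.f_mem r₂.f_mem, ← h₁', ← h₂', smul_add, mul_smul, mul_smul,
      smul_comm (frac 𝒜 (hg r₁.i) hi r₁.f_mem) (frac 𝒜 (hg r₁.i) hi r₂.f_mem)]

omit [DirectSum.Decomposition ℳ] in
lemma rel_smul {W : (Proj 𝒜).Opens} (c : Γ(Proj 𝒜, W)) {x : Γ(GrMod.tilde 𝒜 ℳ 0, W)} {t : Γ(F, W)}
    (h : Rel D x t) : Rel D (c • x) (c • t) := fun p hp => by
  obtain ⟨W₁, r, hp₁, h₁⟩ := h p hp
  obtain ⟨V, hpV, iV, k, ⟨a, ha⟩, ⟨b, hb⟩, hbne, hval⟩ :=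
    (c : GrTwist.O (𝒜 := 𝒜) (op W)).2 ⟨p, hp⟩
  let W' := W₁ ⊓ V
  have l₁ : W' ≤ W₁ := inf_le_left
  have hi : W' ≤ Proj.basicOpen 𝒜 (g r.i) := l₁.trans r.leD
  have h₁' := h₁.res D l₁
  have hW : W' ≤ W := l₁.trans r.le
  have hoval : ∀ y : W', (GrModX.oval 𝒜 c ⟨y.1, hW y.2⟩).val = Localization.mk a ⟨b, hbne ⟨y.1, y.2.2⟩⟩ := fun y =>
    (congrArg HomogeneousLocalization.val (hval ⟨y.1, y.2.2⟩)).trans (HomogeneousLocalization.val_mk _)
  refine ⟨W',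
    { i := r.i, j := k + r.j, f := b * r.f, m := a • r.m
      le := l₁.trans r.le, leD := hi
      f_mem := SetLike.mul_mem_graded hb r.f_mem
      m_mem := SetLike.GradedSMul.smul_mem ha r.m_mem
      ne := fun y hh => (y.1.isPrime.mem_or_mem hh).elim (hbne ⟨y.1, y.2.2⟩) (r.ne ⟨y.1, y.2.1⟩)
      val_eq := fun y => ?_ }, ⟨hp₁, hpV⟩, ?_⟩
  · erw [GrModX.val_smul, r.val_eq ⟨y.1, y.2.1⟩, hoval y]
    rw [LocalizedModule.mk_smul_mk]
    rfl
  · unfold Eqn at h₁' ⊢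
    simp only [Rep.res] at h₁' ⊢
    have hc : frac 𝒜 (hg r.i) hi hb * resR (l₁.trans r.le) c = frac 𝒜 (hg r.i) hi ha := by
      refine oext 𝒜 fun y => ?_
      rw [oval_mul, val_frac, val_frac]
      erw [hoval y]
      rw [Localization.mk_mul, Localization.mk_eq_mk_iff,
        Localization.r_iff_exists]
      exact ⟨1, by simp; ring⟩
    rw [res_smul, res_ev_smul D hi ha r.m_mem, ← h₁', ← hc, frac_mul 𝒜 (hg r.i) hi hb r.f_mem, ← mul_smul, ← mul_smul]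
    congr 1
    ring

variable (hcov : ∀ x : ProjectiveSpectrum 𝒜, ∃ i, g i ∉ x.asHomogeneousIdeal)

include hcov in
omit [DirectSum.Decomposition ℳ] in
lemma exists_rep {W : (Proj 𝒜).Opens} (x : Γ(GrMod.tilde 𝒜 ℳ 0, W)) (p : ProjectiveSpectrum 𝒜)
    (hp : p ∈ W) : ∃ W' : (Proj 𝒜).Opens, p ∈ W' ∧ Nonempty (Rep (g := g) x W') := by
  obtain ⟨V, hpV, iV, i, j, ⟨m, hm⟩, ⟨f, hf⟩, hne, hdeg, hval⟩ :=
    (x : GrMod.sect 𝒜 ℳ 0 (op W)).2 ⟨p, hp⟩
  obtain ⟨l, hl⟩ := hcov p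
  have hmj : m ∈ ℳ j := by
    rcases hdeg with h | h
    · rw [show j = i by omega]; exact hm
    · rw [show m = 0 from h]; exact zero_mem _
  exact ⟨V ⊓ Proj.basicOpen 𝒜 (g l), ⟨hpV, hl⟩,
    ⟨{ i := l, j := j, f := f, m := m, le := inf_le_left.trans iV.le, leD := inf_le_right
       f_mem := hf, m_mem := hmj, ne := fun y => hne ⟨y.1, y.2.1⟩
       val_eq := fun y => hval ⟨y.1, y.2.1⟩ }⟩⟩

include hcov in
lemma exists_rel {W : (Proj 𝒜).Opens} (x : Γ(GrMod.tilde 𝒜 ℳ 0, W)) : ∃ t : Γ(F, W), Rel D x t := by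
  classical
  choose V hpV hr using fun p : W => exists_rep hcov x p.1 p.2
  let r := fun p => (hr p).some
  let u := fun p => (isUnit_frac 𝒜 (hg (r p).i) (r p).leD (r p).f_mem (r p).ne).unit
  let t := fun p => (↑(u p)⁻¹ : Γ(Proj 𝒜, V p)) • AModX.res F (r p).leD (D.ev (r p).j (r p).i (r p).m)
  have ht : ∀ (p : W) (W' : (Proj 𝒜).Opens) (e : W' ≤ V p), frac 𝒜 (hg (r p).i) (e.trans (r p).leD) (r p).f_mem •
      AModX.res F e (t p) = AModX.res F (e.trans (r p).leD) (D.ev (r p).j (r p).i (r p).m) := by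
    intro p W' e
    have : (frac 𝒜 (hg (r p).i) (r p).leD (r p).f_mem) • t p =
        AModX.res F (r p).leD (D.ev (r p).j (r p).i (r p).m) := by
      simp only [t, ← mul_smul, u, IsUnit.mul_val_inv, one_smul]
    have := congrArg (AModX.res F e) this
    simpa only [res_smul, res_res, res_frac] using this
  obtain ⟨T, hT, -⟩ := existsUnique_glue (M := F) (V := W) V (fun p => (r p).le)
    (fun p hp => ⟨⟨p, hp⟩, hpV _⟩) t fun p q => by
      let W' := V p ⊓ V q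
      let x' := AModX.res (GrMod.tilde 𝒜 ℳ 0) (inf_le_left.trans (r p).le : W' ≤ W) x
      let rp : Rep (g := g) x' W' :=
        { (r p).res (inf_le_left : W' ≤ V p) with
          le := le_rfl
          val_eq := fun y => ((r p).res (inf_le_left : W' ≤ V p)).val_eq y }
      let rq : Rep (g := g) x' W' :=
        { (r q).res (inf_le_right : W' ≤ V q) with
          le := le_rfl
          val_eq := fun y => ((r q).res (inf_le_right : W' ≤ V q)).val_eq y }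
      have h1 : Eqn D rp (AModX.res F inf_le_left (t p)) := by
        unfold Eqn
        simp only [rp, Rep.res, res_res]
        exact ht p W' inf_le_left
      have h2 := eqn_transfer D rp rq h1
      unfold Eqn at h2
      simp only [rq, Rep.res, res_res] at h2
      exact (isUnit_frac 𝒜 (hg rq.i) rq.leD rq.f_mem rq.ne).smul_left_cancel.1
        (h2.trans (ht q W' inf_le_right).symm)
  refine ⟨T, fun p hp => ⟨V ⟨p, hp⟩, r ⟨p, hp⟩, hpV _, ?_⟩⟩
  unfold Eqn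
  rw [hT]
  have h3 := ht ⟨p, hp⟩ _ le_rfl
  rw [res_self] at h3
  exact h3

/-- The morphism `M~ ⟶ F`. -/
def hom : GrMod.tilde 𝒜 ℳ 0 ⟶ F where
  val := PresheafOfModules.homMk
    { app := fun V => AddCommGrpCat.ofHom (AddMonoidHom.mk'
        (fun x => (exists_rel D hcov x).choose) fun x x' => rel_unique D
          (exists_rel D hcov _).choose_spec
          (rel_add D (exists_rel D hcov x).choose_spec (exists_rel D hcov x').choose_spec))
      naturality := fun V W i => by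
        ext x
        exact rel_unique D (exists_rel D hcov (AModX.res _ i.unop.le x)).choose_spec
          (rel_res D i.unop.le (exists_rel D hcov x).choose_spec) }
    fun V c x => rel_unique D (exists_rel D hcov _).choose_spec
      (rel_smul D c (exists_rel D hcov x).choose_spec)

lemma rel_hom {W : (Proj 𝒜).Opens} (x : Γ(GrMod.tilde 𝒜 ℳ 0, W)) : Rel D x ((hom D hcov).app W x) :=
  (exists_rel D hcov x).choose_spec

/-- The value on `m / g ^ k`. -/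
lemma hom_app_pow (i : ι) (k : ℕ) {m : M} (hm : m ∈ ℳ k) (x : Γ(GrMod.tilde 𝒜 ℳ 0, Proj.basicOpen 𝒜 (g i)))
    (hx : ∀ y : (Proj.basicOpen 𝒜 (g i) : (Proj 𝒜).Opens), GrMod.val x y =
      LocalizedModule.mk m ⟨g i ^ k, GrModX.pow_notMem y.1.isPrime y.2 k⟩) :
    (hom D hcov).app (Proj.basicOpen 𝒜 (g i)) x = D.ev k i m := by
  have h := (rel_hom D hcov x).apply D
    { i := i, j := k, f := g i ^ k, m := m, le := le_rfl, leD := le_rfl
      f_mem := by simpa using SetLike.pow_mem_graded k (hg i)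
      m_mem := hm, ne := fun y => GrModX.pow_notMem y.1.isPrime y.2 k, val_eq := fun y => hx y }
  unfold Eqn at h
  simp only [frac_pow_self, one_smul, res_self] at h
  exact h

end Groth.Agent.Eg2Gamma
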