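import Groth.Agent.Eg2Gamma.Hom

/-!
# When is `M~ ⟶ F` an isomorphism
-/

noncomputable section

universe u

open CategoryTheory AlgebraicGeometry TopologicalSpace Opposite HomogeneousLocalization DirectSum
open Groth.Agent.AModX

set_option backward.isDefEq.respectTransparency false

namespace Groth.Agent.Eg2Gamma

/-- Bijectivity on the members of an affine cover detects isomorphisms of quasi-coherent modules. -/
theorem isIso_of_bijective_cover {X : Scheme.{u}} {M N : X.Modules} (hM : Coh.IsQCoh M)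
    (hN : Coh.IsQCoh N) (φ : M ⟶ N) {ι : Type*} (U : ι → X.Opens) (hA : ∀ i, IsAffineOpen (U i))
    (hcov : ∀ x, ∃ i, x ∈ U i) (h : ∀ i, Function.Bijective (φ.app (U i))) : IsIso φ := by
  classical
  have hinj : ∀ (V : X.Opens) (x : Γ(M, V)), φ.app V x = 0 → x = 0 := by
    intro V x hx
    refine AModX.eq_of_locally _ _ fun p hp => ?_
    obtain ⟨i, hi⟩ := hcov p
    obtain ⟨r, hr, hpr⟩ := (hA i).exists_basicOpen_le ⟨p, hp⟩ hi
    refine ⟨X.basicOpen r, hr, hpr, ?_⟩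
    rw [map_zero]
    obtain ⟨n, t, ht⟩ := QCoh.exists_pow_smul_eq_map hM (hA i) r (res M hr x)
    change res M (X.basicOpen_le r) t = resR (X.basicOpen_le r) r ^ n • res M hr x at ht
    have h1 : res N (X.basicOpen_le r) (φ.app (U i) t) = 0 := by
      rw [← app_res, ht, Scheme.Modules.Hom.app_smul, app_res, hx, map_zero, smul_zero]
    obtain ⟨m, hm⟩ := QCoh.exists_pow_smul_eq_zero hN (hA i) r _ h1
    have h2 : r ^ m • t = 0 := (h i).1 (by rw [Scheme.Modules.Hom.app_smul, hm, map_zero])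
    have h3 := congrArg (res M (X.basicOpen_le r)) h2
    rw [res_smul, map_pow, ht, map_zero, ← mul_smul, ← pow_add] at h3
    exact ((isUnit_resR _ r le_rfl).pow _).smul_eq_zero.1 h3
  have hsur : ∀ (V : X.Opens) (y : Γ(N, V)), ∃ x, φ.app V x = y := by
    intro V y
    have hloc : ∀ p : V, ∃ (W : X.Opens) (_ : p.1 ∈ W) (hW : W ≤ V) (x : Γ(M, W)),
        φ.app W x = res N hW y := by
      rintro ⟨p, hp⟩
      obtain ⟨i, hi⟩ := hcov p
      obtain ⟨r, hr, hpr⟩ := (hA i).exists_basicOpen_le ⟨p, hp⟩ hi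
      obtain ⟨n, t, ht⟩ := QCoh.exists_pow_smul_eq_map hN (hA i) r (res N hr y)
      change res N (X.basicOpen_le r) t = resR (X.basicOpen_le r) r ^ n • res N hr y at ht
      obtain ⟨s, hs⟩ := (h i).2 t
      obtain ⟨v, hv⟩ := (isUnit_resR (X.basicOpen_le r) r le_rfl).pow n
      refine ⟨X.basicOpen r, hpr, hr, (↑v⁻¹ : Γ(X, X.basicOpen r)) • res M (X.basicOpen_le r) s, ?_⟩
      rw [Scheme.Modules.Hom.app_smul, app_res, hs, ht, ← hv, ← mul_smul, Units.inv_mul, one_smul]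
    choose W hpW hW x hx using hloc
    obtain ⟨x₀, hx₀, -⟩ := existsUnique_glue (M := M) (V := V) W hW (fun p hp => ⟨⟨p, hp⟩, hpW _⟩) x
      fun p q => sub_eq_zero.1 (hinj _ _ (by
        rw [map_sub, app_res, app_res, hx, hx, res_res, res_res, sub_self]))
    refine ⟨x₀, AModX.eq_of_locally _ _ fun p hp => ⟨W ⟨p, hp⟩, hW _, hpW _, ?_⟩⟩
    rw [← app_res, hx₀, hx]
  refine Scheme.Modules.Hom.isIso_iff_isIso_app.2 fun V => (ConcreteCategory.isIso_iff_bijective _).2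
    ⟨(injective_iff_map_eq_zero _).2 (hinj V), hsur V⟩

variable {A σ : Type u} [CommRing A] [SetLike σ A] [AddSubgroupClass σ A] {𝒜 : ℕ → σ} [GradedRing 𝒜]
variable {F : (Proj 𝒜).Modules} {ι : Type u} [Finite ι] {g : ι → A} {hg : ∀ i, g i ∈ 𝒜 1}
variable {M τ : Type u} [AddCommGroup M] [Module A M] [SetLike τ M] [AddSubgroupClass τ M] {ℳ : ℕ → τ}
variable [SetLike.GradedSMul 𝒜 ℳ] [DirectSum.Decomposition ℳ]
variable (D : Vals hg ℳ F) (hcov : ∀ x : ProjectiveSpectrum 𝒜, ∃ i, g i ∉ x.asHomogeneousIdeal)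

omit [Finite ι] in
lemma pow_mem₁ (i : ι) (k : ℕ) (hg : ∀ i, g i ∈ 𝒜 1) : g i ^ k ∈ 𝒜 k := by
  simpa using SetLike.pow_mem_graded k (hg i)

include hcov in
/-- `M~ ≅ F` when `M` is separated by its values and the values span on each chart. -/
theorem nonempty_iso (hF : Coh.IsQCoh F)
    (hsep : ∀ (n : ℕ) (m : M), m ∈ ℳ n → (∀ l, D.ev n l m = 0) → m = 0)
    (hspan : ∀ i, Submodule.span Γ(Proj 𝒜, Proj.basicOpen 𝒜 (g i))
      {t | ∃ (n : ℕ) (m : M), m ∈ ℳ n ∧ D.ev n i m = t} = ⊤) :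
    Nonempty (GrMod.tilde 𝒜 ℳ 0 ≅ F) := by
  classical
  suffices h : IsIso (hom D hcov) from ⟨@asIso _ _ _ _ _ h⟩
  refine isIso_of_bijective_cover (GrModX.isQCoh_tilde 𝒜 ℳ 0) hF _ (fun i => Proj.basicOpen 𝒜 (g i))
    (fun i => Proj.isAffineOpen_basicOpen 𝒜 _ (hg i) one_pos) hcov fun i => ⟨?_, ?_⟩
  · refine (injective_iff_map_eq_zero ((hom D hcov).app _).hom).2 fun w hw => ?_
    obtain ⟨k, m, hm, hval⟩ := GrModX.exists_frac 𝒜 ℳ one_pos (hg i) 0 w
    obtain ⟨n, hn, hmem⟩ := hm.exists_mem (by omega)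
    obtain rfl : n = k := by simpa using hn
    have h0 : D.ev n i m = 0 := by
      rw [← hom_app_pow D hcov i n hmem w hval]; exact hw
    have hN : ∀ l, ∃ N, frac 𝒜 (hg l) (le_refl (Proj.basicOpen 𝒜 (g l))) (hg i) ^ N • D.ev n l m = 0 := by
      intro l
      refine QCoh.exists_pow_smul_eq_zero hF (Proj.isAffineOpen_basicOpen 𝒜 _ (hg l) one_pos) _ _ ?_
      change AModX.res F _ (D.ev n l m) = 0
      have hle : (Proj 𝒜).basicOpen (frac 𝒜 (hg l) (le_refl (Proj.basicOpen 𝒜 (g l))) (hg i)) ≤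
          Proj.basicOpen 𝒜 (g i) := by
        rw [basicOpen_frac]; exact ProjectiveSpectrum.basicOpen_mul_le_right 𝒜 _ _
      rw [D.compat n m hmem l i _ ((Proj 𝒜).basicOpen_le _) hle, h0, map_zero, smul_zero]
    choose N hN using hN
    haveI := Fintype.ofFinite ι
    let K := ∑ l, N l
    have hz : g i ^ K • m = 0 := by
      refine hsep (K + n) _ (SetLike.GradedSMul.smul_mem (pow_mem₁ i K hg) hmem) fun l => ?_
      rw [D.smul K n _ (pow_mem₁ i K hg) m hmem l]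
      have hp : ∀ K : ℕ, frac 𝒜 (hg l) (le_refl (Proj.basicOpen 𝒜 (g l))) (pow_mem₁ i K hg) =
          frac 𝒜 (hg l) le_rfl (hg i) ^ K := by
        intro K
        induction K with
        | zero =>
          exact ((frac_congr 𝒜 _ _ rfl (pow_zero _) _ _).trans (frac_one 𝒜 (hg l) le_rfl)).trans (pow_zero _).symm
        | succ K ih =>
          refine (frac_congr 𝒜 _ _ rfl (pow_succ _ _) _ _).trans
            ((frac_mul 𝒜 (hg l) le_rfl (pow_mem₁ i K hg) (hg i)).trans ?_)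
          rw [ih, ← pow_succ]
      obtain ⟨r, hr⟩ := Nat.exists_eq_add_of_le'
        (Finset.single_le_sum (f := N) (fun _ _ => Nat.zero_le _) (Finset.mem_univ l))
      rw [hp, show K = r + N l from hr, pow_add, mul_smul, hN, smul_zero]
    refine GrModX.ext_val 𝒜 ℳ fun y => ?_
    rw [hval y]
    refine Eq.trans ?_ (show (0 : GrMod.LocMod 𝒜 (M := M) y.1) = _ from rfl)
    exact (GrModX.mk_eq_zero_iff 𝒜 y.1 _ _).mpr
      ⟨g i ^ K, GrModX.pow_notMem y.1.isPrime y.2 K, hz⟩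
  · intro t
    have ht : t ∈ Submodule.span Γ(Proj 𝒜, Proj.basicOpen 𝒜 (g i))
        {t | ∃ (n : ℕ) (m : M), m ∈ ℳ n ∧ D.ev n i m = t} := by rw [hspan i]; trivial
    induction ht using Submodule.span_induction with
    | mem t ht =>
      obtain ⟨n, m, hm, rfl⟩ := ht
      exact ⟨GrModX.fracSect 𝒜 ℳ 0 _ (pow_mem₁ i n hg) (fun y => GrModX.pow_notMem y.1.isPrime y.2 n)
        (Or.inr ⟨n, by simp, hm⟩), hom_app_pow D hcov i n hm _ fun y => rfl⟩
    | zero => exact ⟨0, map_zero _⟩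
    | add a b _ _ ha hb =>
      obtain ⟨x, rfl⟩ := ha
      obtain ⟨y, rfl⟩ := hb
      exact ⟨x + y, map_add _ _ _⟩
    | smul c a _ ha =>
      obtain ⟨x, rfl⟩ := ha
      exact ⟨c • x, Scheme.Modules.Hom.app_smul _ _ _⟩

end Groth.Agent.Eg2Gamma
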