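import Groth.Agent.Eg2Gamma.Star
import Groth.Agent.QCoh.FT
import Groth.Prelude.Def_GrMod2

/-!
# Quasi-coherent modules on `Proj` are associated to graded modules
-/

noncomputable section

universe u

open CategoryTheory AlgebraicGeometry TopologicalSpace Opposite HomogeneousLocalization DirectSum

set_option backward.isDefEq.respectTransparency false

namespace Groth.Agent.Eg2Gamma

variable {R A : Type u} [CommRing R] [CommRing A] [Algebra R A] {𝒜 : ℕ → Submodule R A} [GradedAlgebra 𝒜]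
variable {ι : Type u} [Finite ι] {g : ι → A} (hg : ∀ i, g i ∈ 𝒜 1)
  (hcov : ∀ x : ProjectiveSpectrum 𝒜, ∃ i, g i ∉ x.asHomogeneousIdeal)
  {F : (Proj 𝒜).Modules} (hF : Coh.IsQCoh F)

include hcov hF in
/-- A graded submodule of twisted sections spanning on every chart computes `F`. -/
theorem exists_tilde_iso {Q : Submodule A (Pol hg F)} (hQ : IsGradedSub Q)
    (hspan : ∀ i, Submodule.span Γ(Proj 𝒜, Proj.basicOpen 𝒜 (g i))
      {t | ∃ (n : ℕ) (m : Q), m ∈ piece Q n ∧ (vals hQ).ev n i m = t} = ⊤) :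
    ∃ (_ : Module R Q) (_ : IsScalarTower R A Q) (ℳ : ℕ → Submodule R Q)
      (_ : DirectSum.Decomposition ℳ) (_ : SetLike.GradedSMul 𝒜 ℳ),
      Nonempty (GrTilde.tilde 𝒜 ℳ 0 ≅ F) := by
  letI hRQ : Module R Q := Module.compHom Q (algebraMap R A)
  have hT : @IsScalarTower R A Q _ _ hRQ.toDistribMulAction.toMulAction.toSMul :=
    ⟨fun r a x => by rw [Algebra.smul_def, mul_smul]; rfl⟩
  let ℳ : ℕ → Submodule R Q := fun n =>
    { toAddSubmonoid := (piece Q n).toAddSubmonoid
      smul_mem' := fun r p hp => by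
        have h := (gradedSMul Q).smul_mem (j := n) (SetLike.algebraMap_mem_graded 𝒜 r) (show p ∈ piece Q n from hp)
        rw [vadd_eq_add, zero_add] at h
        exact h }
  letI hdec : DirectSum.Decomposition ℳ :=
    (show DirectSum.IsInternal ℳ from isInternal hQ).chooseDecomposition
  have hsm : SetLike.GradedSMul 𝒜 ℳ := ⟨fun {i j a p} ha hp => (gradedSMul Q).smul_mem ha hp⟩
  refine ⟨hRQ, hT, ℳ, hdec, hsm, ?_⟩
  exact nonempty_iso (ℳ := ℳ) (hg := hg)
    { ev := (vals hQ).ev, smul := (vals hQ).smul, compat := (vals hQ).compat } hcov hF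
    (fun n m hm h => vals_sep hQ n m hm h) hspan

include hg hcov hF

/-- Every quasi-coherent module is `M~`. -/
theorem exists_iso_tilde :
    ∃ (M : Type u) (_ : AddCommGroup M) (_ : Module R M) (_ : Module A M) (_ : IsScalarTower R A M)
      (ℳ : ℕ → Submodule R M) (_ : DirectSum.Decomposition ℳ) (_ : SetLike.GradedSMul 𝒜 ℳ),
      Nonempty (GrTilde.tilde 𝒜 ℳ 0 ≅ F) := by
  obtain ⟨h1, h2, ℳ, h3, h4, h5⟩ := exists_tilde_iso hg hcov hF (isGradedSub_allTw (hg := hg) (F := F))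
    fun i => eq_top_iff.2 fun v _ => by
      obtain ⟨n, t, ht, rfl⟩ := exists_isTw (hg := hg) hF i v
      refine Submodule.subset_span ⟨n, ⟨sgl hg F n t, sgl_mem_allTw ht⟩, fun k hk => ?_, ?_⟩
      · show coef k (sgl hg F n t) = 0
        rw [coef_sgl, if_neg (Ne.symm hk)]
      · show coef n (sgl hg F n t) i = t i
        rw [coef_sgl, if_pos rfl]
  exact ⟨_, inferInstance, h1, inferInstance, h2, ℳ, h3, h4, h5⟩

/-- Every quasi-coherent module of finite type is `N~` with `N` finitely generated. -/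
theorem exists_iso_tilde_finite (hFT : CohB1.IsFT F) :
    ∃ (N : Type u) (_ : AddCommGroup N) (_ : Module R N) (_ : Module A N) (_ : IsScalarTower R A N)
      (𝒩 : ℕ → Submodule R N) (_ : DirectSum.Decomposition 𝒩) (_ : SetLike.GradedSMul 𝒜 𝒩),
      Module.Finite A N ∧ Nonempty (GrTilde.tilde 𝒜 𝒩 0 ≅ F) := by
  classical
  have hfin := fun i => QCoh.finite_of_isFT hF hFT (Proj.isAffineOpen_basicOpen 𝒜 _ (hg i) one_pos)
  choose G hG using fun i => (hfin i).fg_top
  choose n t ht hti using fun (p : Σ i, ↥(G i)) => exists_isTw (hg := hg) hF p.1 p.2.1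
  let S : Set (Pol hg F) := Set.range fun p => sgl hg F (n p) (t p)
  have hQ : IsGradedSub (Submodule.span A S) := isGradedSub_span
    (by rintro _ ⟨p, rfl⟩; exact sgl_mem_allTw (ht p)) (by rintro _ ⟨p, rfl⟩; exact ⟨_, _, rfl⟩)
  obtain ⟨h1, h2, ℳ, h3, h4, h5⟩ := exists_tilde_iso hg hcov hF hQ fun i => eq_top_iff.2 <| by
    rw [← hG i]
    refine Submodule.span_le.2 fun v hv => Submodule.subset_span ?_
    refine ⟨n ⟨i, v, hv⟩, ⟨sgl hg F (n ⟨i, v, hv⟩) (t ⟨i, v, hv⟩), Submodule.subset_span ⟨_, rfl⟩⟩,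
      fun k hk => ?_, ?_⟩
    · show coef k (sgl hg F _ _) = 0
      rw [coef_sgl, if_neg (Ne.symm hk)]
    · show coef (n ⟨i, v, hv⟩) (sgl hg F _ _) i = v
      rw [coef_sgl, if_pos rfl]
      exact hti ⟨i, v, hv⟩
  haveI := Fintype.ofFinite ι
  exact ⟨_, inferInstance, h1, inferInstance, h2, ℳ, h3, h4,
    Module.Finite.iff_fg.2 (Submodule.fg_span (Set.finite_range _)), h5⟩

end Groth.Agent.Eg2Gamma

namespace Groth.Agent.Eg2Gamma

/-- Generators of the irrelevant ideal cover `Proj`. -/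
lemma exists_notMem_of_span {R A : Type u} [CommRing R] [CommRing A] [Algebra R A]
    {𝒜 : ℕ → Submodule R A} [GradedAlgebra 𝒜] (s : Finset A)
    (hs : (HomogeneousIdeal.irrelevant 𝒜).toIdeal = Ideal.span (s : Set A)) (x : ProjectiveSpectrum 𝒜) :
    ∃ i : ↥s, (i : A) ∉ x.asHomogeneousIdeal := by
  by_contra h
  push Not at h
  refine x.not_irrelevant_le fun a ha => ?_
  have ha' : a ∈ Ideal.span (s : Set A) := hs ▸ ha
  exact Ideal.span_le.2 (fun b hb => h ⟨b, hb⟩) ha'

end Groth.Agent.Eg2Gamma
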