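import Groth.Agent.Eg2Gamma.Main
import Groth.Agent.TwistX.Global
import Groth.Agent.AmpleX.Generated
import Groth.Prelude.Def_FlatMod2

/-!
# Modules of finite type on `Proj` as quotients of twists
-/

noncomputable section

universe u

open CategoryTheory CategoryTheory.Limits AlgebraicGeometry TopologicalSpace Opposite
open Groth.Agent.AModX

set_option backward.isDefEq.respectTransparency false
set_option backward.isDefEq.respectTransparency.types false

namespace Groth.Agent.Eg2Gamma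

section general

variable {X : Scheme.{u}} {F G : X.Modules}

/-- Morphisms agreeing on generators over an affine cover are equal. -/
theorem hom_ext_of_affine_gens (hF : Coh.IsQCoh F) {ι : Type*} (U : ι → X.Opens)
    (hA : ∀ i, IsAffineOpen (U i)) (hcov : ∀ x, ∃ i, x ∈ U i) (S : ∀ i, Set Γ(F, U i))
    (hS : ∀ i, Submodule.span Γ(X, U i) (S i) = ⊤) {φ ψ : F ⟶ G}
    (h : ∀ i, ∀ t ∈ S i, φ.app (U i) t = ψ.app (U i) t) : φ = ψ := by
  refine Scheme.Modules.hom_ext _ _ fun V => ?_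
  ext x
  refine AModX.eq_of_locally _ _ fun p hp => ?_
  obtain ⟨i, hi⟩ := hcov p
  have hall : ∀ t, φ.app (U i) t = ψ.app (U i) t := fun t => by
    have ht : t ∈ Submodule.span Γ(X, U i) (S i) := by rw [hS i]; trivial
    induction ht using Submodule.span_induction with
    | mem t ht => exact h i t ht
    | zero => rw [map_zero, map_zero]
    | add a b _ _ ha hb => rw [map_add, map_add, ha, hb]
    | smul c a _ ha => rw [Scheme.Modules.Hom.app_smul, Scheme.Modules.Hom.app_smul, ha]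
  obtain ⟨r, hr, hpr⟩ := (hA i).exists_basicOpen_le ⟨p, hp⟩ hi
  refine ⟨X.basicOpen r, hr, hpr, ?_⟩
  obtain ⟨n, t, ht⟩ := QCoh.exists_pow_smul_eq_map hF (hA i) r (res F hr x)
  change res F (X.basicOpen_le r) t = resR (X.basicOpen_le r) r ^ n • res F hr x at ht
  refine ((isUnit_resR (X.basicOpen_le r) r le_rfl).pow n).smul_left_cancel.1 ?_
  rw [← app_res, ← app_res, ← Scheme.Modules.Hom.app_smul, ← Scheme.Modules.Hom.app_smul, ← ht,
    app_res, app_res, hall]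

/-- Generators over an affine open generate the stalks there. -/
theorem span_germ_eq_top (hF : Coh.IsQCoh F) {U : X.Opens} (hA : IsAffineOpen U) {κ : Type*}
    (t : κ → Γ(F, U)) (ht : Submodule.span Γ(X, U) (Set.range t) = ⊤) {x : X} (hx : x ∈ U) :
    Submodule.span (X.presheaf.stalk x) (Set.range fun k => F.presheaf.germ U x hx (t k)) = ⊤ := by
  refine eq_top_iff.2 fun y _ => ?_
  obtain ⟨W, hxW, z, rfl⟩ := TopCat.Presheaf.exists_germ_eq F.presheaf y
  obtain ⟨r, hr, hxr⟩ := hA.exists_basicOpen_le ⟨x, hxW⟩ hx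
  obtain ⟨n, s, hs⟩ := QCoh.exists_pow_smul_eq_map hF hA r (res F hr z)
  change res F (X.basicOpen_le r) s = resR (X.basicOpen_le r) r ^ n • res F hr z at hs
  have hs' : F.presheaf.germ U x hx s ∈
      Submodule.span (X.presheaf.stalk x) (Set.range fun k => F.presheaf.germ U x hx (t k)) := by
    have hmem : s ∈ Submodule.span Γ(X, U) (Set.range t) := by rw [ht]; trivial
    clear hs
    induction hmem using Submodule.span_induction with
    | mem s hs => obtain ⟨k, rfl⟩ := hs; exact Submodule.subset_span ⟨k, rfl⟩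
    | zero => rw [map_zero]; exact zero_mem _
    | add a b _ _ ha hb => rw [map_add]; exact add_mem ha hb
    | smul c a _ ha => rw [QCoh.germ_smul']; exact Submodule.smul_mem _ _ ha
  rw [← InvX.germ_res' (X.basicOpen_le r) hxr, hs, QCoh.germ_smul', InvX.germ_res'] at hs'
  exact (Submodule.smul_mem_iff_of_isUnit _ (((isUnit_resR (X.basicOpen_le r) r le_rfl).pow n).map _)).1 hs'

end general

variable {R A : Type u} [CommRing R] [CommRing A] [Algebra R A] {𝒜 : ℕ → Submodule R A} [GradedAlgebra 𝒜]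
variable {F : (Proj 𝒜).Modules} {ι : Type u} [Finite ι] {g : ι → A} (hg : ∀ i, g i ∈ 𝒜 1)

lemma one_notMem (x : ProjectiveSpectrum 𝒜) : (1 : A) ∉ x.asHomogeneousIdeal :=
  fun h => x.isPrime.ne_top ((Ideal.eq_top_iff_one _).mpr h)

/-- Twisted sections of every large degree generate. -/
theorem exists_gens (hF : Coh.IsQCoh F) (hFT : CohB1.IsFT F) :
    ∃ n₀ : ℕ, ∀ n, n₀ ≤ n → ∃ (k : ℕ) (t : Fin k → Fam g F), (∀ p, IsTw hg n (t p)) ∧
      ∀ i, Submodule.span Γ(Proj 𝒜, Proj.basicOpen 𝒜 (g i)) (Set.range fun p => t p i) = ⊤ := by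
  classical
  have hfin := fun i => QCoh.finite_of_isFT hF hFT (Proj.isAffineOpen_basicOpen 𝒜 _ (hg i) one_pos)
  choose G hG using fun i => (hfin i).fg_top
  choose d t ht hti using fun (p : Σ i, ↥(G i)) => exists_isTw (hg := hg) hF p.1 p.2.1
  haveI := Fintype.ofFinite ι
  refine ⟨∑ p, d p, fun n hn => ?_⟩
  have hdp : ∀ p, d p ≤ n := fun p =>
    (Finset.single_le_sum (f := d) (fun _ _ => Nat.zero_le _) (Finset.mem_univ p)).trans hn
  let T : (Σ i, ↥(G i)) → Fam g F := fun p =>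
    fracs hg (n - d p) ⟨g p.1 ^ (n - d p), pow_mem₁ p.1 _ hg⟩ • t p
  have hT : ∀ p, IsTw hg n (T p) := fun p => by
    have := (ht p).smul (pow_mem₁ p.1 (n - d p) hg)
    rwa [Nat.sub_add_cancel (hdp p)] at this
  have hTi : ∀ p, T p p.1 = p.2.1 := fun p => by
    show frac 𝒜 (hg p.1) le_rfl (pow_mem₁ p.1 (n - d p) hg) • t p p.1 = _
    rw [frac_pow_self, one_smul, hti]
  refine ⟨Fintype.card (Σ i, ↥(G i)), fun j => T ((Fintype.equivFin _).symm j), fun j => hT _,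
    fun i => eq_top_iff.2 ?_⟩
  rw [← hG i]
  refine Submodule.span_le.2 fun v hv => Submodule.subset_span ⟨Fintype.equivFin _ ⟨i, v, hv⟩, ?_⟩
  show T _ i = v
  rw [Equiv.symm_apply_apply]
  exact hTi ⟨i, v, hv⟩

variable (hcov : ∀ x : ProjectiveSpectrum 𝒜, ∃ i, g i ∉ x.asHomogeneousIdeal)

/-- `1 / g ^ n`. -/
def negFrac (i : ι) (n : ℕ) : TwistX.UnitFrac (𝒜 := 𝒜) (-(n : ℤ)) (Proj.basicOpen 𝒜 (g i)) where
  i := 0
  j := n
  num := 1
  den := g i ^ n
  num_mem := SetLike.GradedOne.one_mem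
  den_mem := pow_mem₁ i n hg
  deg := by omega
  num_ne y := one_notMem y.1
  den_ne y := TwistX.notMem_pow y.2 n

omit [Finite ι] in
lemma negFrac_change (i l : ι) (n : ℕ) (W : (Proj 𝒜).Opens) (hi : W ≤ Proj.basicOpen 𝒜 (g i))
    (hl : W ≤ Proj.basicOpen 𝒜 (g l)) :
    AModX.res (Twist.twist 𝒜 (-(n : ℤ))) hl (TwistX.fracSect (negFrac hg l n)) =
      frac 𝒜 (hg l) hl (hg i) ^ n •
        AModX.res (Twist.twist 𝒜 (-(n : ℤ))) hi (TwistX.fracSect (negFrac hg i n)) := by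
  refine Subtype.ext (funext fun y => Subtype.ext ?_)
  refine Eq.trans ?_ (Twist.coe_smul_val _ y.1 _ _).symm
  show (Localization.mk 1 ⟨g l ^ n, _⟩ : Twist.Loc 𝒜 y.1) =
    (GrModX.oval 𝒜 (frac 𝒜 (hg l) hl (hg i) ^ n) y).val * Localization.mk 1 ⟨g i ^ n, _⟩
  rw [GrModX.oval_pow, HomogeneousLocalization.val_pow, val_frac, Localization.mk_pow, Localization.mk_mul,
    Localization.mk_eq_mk_iff, Localization.r_iff_exists]
  exact ⟨1, by simp⟩

include hg hcov

/-- `F` is a quotient of sums of negative twists. -/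
theorem exists_epi_negTwist (hF : Coh.IsQCoh F) (hFT : CohB1.IsFT F) :
    ∃ n₀ : ℕ, ∀ n : ℕ, n₀ ≤ n →
      ∃ (k : ℕ) (p : (∐ fun _ : Fin k => Twist.twist 𝒜 (-(n : ℤ))) ⟶ F), Epi p := by
  obtain ⟨n₀, hn₀⟩ := exists_gens hg hF hFT
  refine ⟨n₀, fun n hn => ?_⟩
  obtain ⟨k, t, ht, hspan⟩ := hn₀ n hn
  let e : ∀ i, Γ(Twist.twist 𝒜 (-(n : ℤ)), Proj.basicOpen 𝒜 (g i)) := fun i => TwistX.fracSect (negFrac hg i n)
  have he : ∀ i, InvX.IsFrame (M := Twist.twist 𝒜 (-(n : ℤ))) (U := Proj.basicOpen 𝒜 (g i)) (e i) :=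
    fun i => TwistX.isFrame_fracSect (negFrac hg i n)
  have hc : ∀ p (a b : ι) (W : (Proj 𝒜).Opens) (ha : W ≤ Proj.basicOpen 𝒜 (g a))
      (hb : W ≤ Proj.basicOpen 𝒜 (g b)) (c : Γ(Proj 𝒜, W)),
      AModX.res _ hb (e b) = c • AModX.res _ ha (e a) →
        AModX.res F hb (t p b) = c • AModX.res F ha (t p a) := by
    intro p a b W ha hb c hcab
    rw [show c = frac 𝒜 (hg b) hb (hg a) ^ n from
      (he a).coord_unique ha (hcab.symm.trans (negFrac_change hg a b n W ha hb))]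
    exact ht p b a W hb ha
  let φ : Fin k → (Twist.twist 𝒜 (-(n : ℤ)) ⟶ F) := fun p =>
    InvX.ofFrames (fun x => hcov x) he (hc p)
  refine ⟨k, Sigma.desc φ, ⟨fun a b h => hom_ext_of_affine_gens hF (fun i => Proj.basicOpen 𝒜 (g i))
    (fun i => Proj.isAffineOpen_basicOpen 𝒜 _ (hg i) one_pos) (fun x => hcov x) _ hspan ?_⟩⟩
  rintro i _ ⟨p, rfl⟩
  have h1 : φ p ≫ a = φ p ≫ b := by
    rw [← Sigma.ι_desc φ p, Category.assoc, Category.assoc, h]
  have h2 := congrArg (fun m => Scheme.Modules.Hom.app m (Proj.basicOpen 𝒜 (g i)) (e i)) h1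
  change a.app _ ((φ p).app _ (e i)) = b.app _ ((φ p).app _ (e i)) at h2
  rwa [InvX.ofFrames_app] at h2

omit [Finite ι] hcov in
lemma globalOf_change (i l : ι) (n : ℕ) (W : (Proj 𝒜).Opens) (hl : W ≤ Proj.basicOpen 𝒜 (g l)) :
    AModX.res (Twist.twist 𝒜 (n : ℤ)) (le_top : W ≤ ⊤) (Twist.globalOf 𝒜 ⟨g i ^ n, pow_mem₁ i n hg⟩) =
      frac 𝒜 (hg l) hl (hg i) ^ n •
        AModX.res (Twist.twist 𝒜 (n : ℤ)) (le_top : W ≤ ⊤) (Twist.globalOf 𝒜 ⟨g l ^ n, pow_mem₁ l n hg⟩) := by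
  refine Subtype.ext (funext fun y => Subtype.ext ?_)
  refine Eq.trans ?_ (Twist.coe_smul_val _ y.1 _ _).symm
  show (Localization.mk (g i ^ n) ⟨1, _⟩ : Twist.Loc 𝒜 y.1) =
    (GrModX.oval 𝒜 (frac 𝒜 (hg l) hl (hg i) ^ n) y).val * Localization.mk (g l ^ n) ⟨1, _⟩
  rw [GrModX.oval_pow, HomogeneousLocalization.val_pow, val_frac, Localization.mk_pow, Localization.mk_mul,
    Localization.mk_eq_mk_iff, Localization.r_iff_exists]
  exact ⟨1, by simp; ring⟩

/-- Large twists of `F` are quotients of free modules. -/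
theorem exists_epi_free (hF : Coh.IsQCoh F) (hFT : CohB1.IsFT F) :
    ∃ n₀ : ℕ, ∀ n : ℕ, n₀ ≤ n →
      ∃ (k : ℕ) (p : FlatMod.freeMod (Proj 𝒜) k ⟶ Twist.twistBy 𝒜 F (n : ℤ)), Epi p := by
  obtain ⟨n₀, hn₀⟩ := exists_gens hg hF hFT
  refine ⟨n₀, fun n hn => ?_⟩
  obtain ⟨k, t, ht, hspan⟩ := hn₀ n hn
  let L := Twist.twist 𝒜 (n : ℤ)
  let f : ∀ i, Γ(L, Proj.basicOpen 𝒜 (g i)) := fun i =>
    AModX.res L le_top (Twist.globalOf 𝒜 ⟨g i ^ n, pow_mem₁ i n hg⟩)
  have hglue : ∀ p, ∃ T : Γ(CohB1.tensorMod F L, ⊤), ∀ i,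
      AModX.res _ (le_top : Proj.basicOpen 𝒜 (g i) ≤ ⊤) T = InvX.tmul (t p i) (f i) := fun p => by
    obtain ⟨T, hT, -⟩ := AModX.existsUnique_glue (M := CohB1.tensorMod F L) (V := ⊤)
      (fun i => Proj.basicOpen 𝒜 (g i)) (fun _ => le_top) (fun x _ => hcov x)
      (fun i => InvX.tmul (t p i) (f i)) fun a b => by
        let W := Proj.basicOpen 𝒜 (g a) ⊓ Proj.basicOpen 𝒜 (g b)
        rw [InvX.res_tmul, InvX.res_tmul, ht p a b W inf_le_left inf_le_right, InvX.tmul_smul_left,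
          ← InvX.tmul_smul_right]
        congr 1
        simp only [f, AModX.res_res]
        exact (globalOf_change hg b a n W inf_le_left).symm
    exact ⟨T, hT⟩
  choose T hT using hglue
  refine ⟨k, InvX.exists_epi_freeMod (F := CohB1.tensorMod F L) (s := T) fun x => ?_⟩
  obtain ⟨i, hi⟩ := hcov x
  have hfr : InvX.IsFrame (f i) := TwistX.isFrame_res_globalOf (pow_mem₁ i n hg)
    fun y => TwistX.notMem_pow y.2 n
  have := AmpleX.span_germ_tmul_eq_top hi (fun p => t p i)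
    (span_germ_eq_top hF (Proj.isAffineOpen_basicOpen 𝒜 _ (hg i) one_pos) _ (hspan i) hi) hfr
  refine eq_top_iff.2 (this.ge.trans (Submodule.span_mono ?_))
  rintro _ ⟨p, rfl⟩
  refine ⟨p, ?_⟩
  show _ = (CohB1.tensorMod F L).presheaf.germ (Proj.basicOpen 𝒜 (g i)) x hi (InvX.tmul (t p i) (f i))
  rw [← hT p i, InvX.germ_res']

end Groth.Agent.Eg2Gamma
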