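import Groth.Agent.Eg2Gamma.Iso
import Mathlib.Algebra.Polynomial.Module.Basic
import Mathlib.Algebra.DirectSum.Internal
import Mathlib.Algebra.Polynomial.Coeff

/-!
# Twisted sections of a quasi-coherent module on `Proj` as a graded module
-/

noncomputable section

universe u

open CategoryTheory AlgebraicGeometry TopologicalSpace Opposite HomogeneousLocalization DirectSum
open Groth.Agent.AModX

set_option backward.isDefEq.respectTransparency false

namespace Groth.Agent.Eg2Gamma

variable {A σ : Type u} [CommRing A] [SetLike σ A] [AddSubgroupClass σ A] {𝒜 : ℕ → σ} [GradedRing 𝒜]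
variable {ι : Type u} {g : ι → A} (hg : ∀ i, g i ∈ 𝒜 1) (F : (Proj 𝒜).Modules)

/-- Functions on the charts. -/
abbrev Fn (g : ι → A) : Type u := ∀ i, Γ(Proj 𝒜, Proj.basicOpen 𝒜 (g i))

/-- Families of sections on the charts. -/
abbrev Fam (g : ι → A) (F : (Proj 𝒜).Modules) : Type u := ∀ i, Γ(F, Proj.basicOpen 𝒜 (g i))

/-- The components of a degree `n` element as functions on the charts. -/
def fracs (n : ℕ) : 𝒜 n →+ Fn (𝒜 := 𝒜) g :=
  AddMonoidHom.mk' (fun a i => frac 𝒜 (hg i) le_rfl a.2) fun a b => funext fun i =>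
    frac_add 𝒜 (hg i) le_rfl a.2 b.2

lemma fracs_apply (n : ℕ) (a : 𝒜 n) (i : ι) : fracs hg n a i = frac 𝒜 (hg i) le_rfl a.2 := rfl

/-- The homogenized dehomogenization. -/
def hmap : A →+* Polynomial (Fn (𝒜 := 𝒜) g) :=
  (DirectSum.toSemiring (fun n => (Polynomial.monomial n).toAddMonoidHom.comp (fracs hg n))
    (by
      show Polynomial.monomial 0 (fracs hg 0 _) = 1
      rw [← Polynomial.monomial_zero_one]
      congr 1
      exact funext fun i => frac_one 𝒜 (hg i) le_rfl)
    (fun {n m} a b => by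
      show Polynomial.monomial (n + m) (fracs hg (n + m) _) =
        Polynomial.monomial n (fracs hg n a) * Polynomial.monomial m (fracs hg m b)
      rw [Polynomial.monomial_mul_monomial]
      congr 1
      exact funext fun i => frac_mul 𝒜 (hg i) le_rfl a.2 b.2)).comp
    (DirectSum.decomposeRingEquiv 𝒜).toRingHom

lemma hmap_of_mem {n : ℕ} {a : A} (ha : a ∈ 𝒜 n) :
    hmap hg a = Polynomial.monomial n (fracs hg n ⟨a, ha⟩) := by
  simp only [hmap, RingHom.coe_comp, Function.comp_apply, RingEquiv.toRingHom_eq_coe, RingEquiv.coe_toRingHom]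
  change DFunLike.coe _ (DirectSum.decompose 𝒜 a) = _
  rw [DirectSum.decompose_of_mem 𝒜 ha, DirectSum.toSemiring_of]
  rfl

/-- Polynomials with coefficients families of sections. -/
@[nolint unusedArguments]
def Pol (_hg : ∀ i, g i ∈ 𝒜 1) (F : (Proj 𝒜).Modules) : Type u :=
  PolynomialModule (Fn (𝒜 := 𝒜) g) (Fam g F)

instance : AddCommGroup (Pol hg F) :=
  inferInstanceAs (AddCommGroup (PolynomialModule (Fn (𝒜 := 𝒜) g) (Fam g F)))

instance polPolyModule : Module (Polynomial (Fn (𝒜 := 𝒜) g)) (Pol hg F) :=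
  inferInstanceAs (Module (Polynomial (Fn (𝒜 := 𝒜) g)) (PolynomialModule (Fn (𝒜 := 𝒜) g) (Fam g F)))

instance polModule : Module A (Pol hg F) := Module.compHom _ (hmap hg)

variable {hg F}

/-- The coefficient of degree `n`. -/
def coef (n : ℕ) : Pol hg F →+ Fam g F :=
  AddMonoidHom.mk' (fun p => PolynomialModule.coeff p n) fun _ _ => rfl

variable (hg F) in
/-- The element of degree `n` with coefficient `t`. -/
def sgl (n : ℕ) : Fam g F →+ Pol hg F :=
  AddMonoidHom.mk' (PolynomialModule.single (Fn (𝒜 := 𝒜) g) n) fun a b => PolynomialModule.single_add n a b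

lemma coef_sgl (n k : ℕ) (t : Fam g F) : coef k (sgl hg F n t) = if n = k then t else 0 := by
  classical
  exact Finsupp.single_apply

lemma ext_coef {p q : Pol hg F} (h : ∀ n, coef n p = coef n q) : p = q :=
  PolynomialModule.ext (Finsupp.ext h)

lemma sgl_smul {j : ℕ} {a : A} (ha : a ∈ 𝒜 j) (n : ℕ) (t : Fam g F) :
    a • sgl hg F n t = sgl hg F (j + n) (fracs hg j ⟨a, ha⟩ • t) := by
  show hmap hg a • sgl hg F n t = _
  rw [hmap_of_mem hg ha]
  exact PolynomialModule.monomial_smul_single j _ n t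

lemma coef_smul {j : ℕ} {a : A} (ha : a ∈ 𝒜 j) (p : Pol hg F) (k : ℕ) :
    coef k (a • p) = if j ≤ k then fracs hg j ⟨a, ha⟩ • coef (k - j) p else 0 := by
  show coef k (hmap hg a • p) = _
  rw [hmap_of_mem hg ha]
  exact PolynomialModule.monomial_smul_apply j _ p k

/-- Twisted sections of degree `n`. -/
def IsTw (hg : ∀ i, g i ∈ 𝒜 1) (n : ℕ) (t : Fam g F) : Prop :=
  ∀ (i l : ι) (W : (Proj 𝒜).Opens) (hi : W ≤ Proj.basicOpen 𝒜 (g i)) (hl : W ≤ Proj.basicOpen 𝒜 (g l)),
    AModX.res F hi (t i) = frac 𝒜 (hg i) hi (hg l) ^ n • AModX.res F hl (t l)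

lemma IsTw.zero (n : ℕ) : IsTw (F := F) hg n 0 := fun i l W hi hl => by
  simp only [Pi.zero_apply, map_zero, smul_zero]

lemma IsTw.add {n : ℕ} {t t' : Fam g F} (h : IsTw hg n t) (h' : IsTw hg n t') :
    IsTw hg n (t + t') := fun i l W hi hl => by
  simp only [Pi.add_apply, map_add, smul_add, h i l W hi hl, h' i l W hi hl]

lemma IsTw.smul {n : ℕ} {t : Fam g F} (h : IsTw hg n t) {j : ℕ} {a : A} (ha : a ∈ 𝒜 j) :
    IsTw hg (j + n) (fracs hg j ⟨a, ha⟩ • t) := fun i l W hi hl => by
  simp only [Pi.smul_apply', fracs_apply, res_smul, res_frac, h i l W hi hl, ← mul_smul]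
  congr 1
  rw [frac_trans 𝒜 (hg i) (hg l) hi hl ha, pow_add]
  ring

variable (hg F) in
/-- All coefficients are twisted sections. -/
def allTw : Submodule A (Pol hg F) where
  carrier := {p | ∀ n, IsTw hg n (coef n p)}
  zero_mem' n := by rw [map_zero]; exact IsTw.zero n
  add_mem' hp hq n := by rw [map_add]; exact (hp n).add (hq n)
  smul_mem' c p hp := by
    classical
    intro n
    rw [← DirectSum.sum_support_decompose 𝒜 c, Finset.sum_smul, map_sum]
    refine Finset.sum_induction _ (IsTw hg n) (fun _ _ => IsTw.add) (IsTw.zero n) fun j _ => ?_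
    rw [coef_smul (SetLike.coe_mem _)]
    split_ifs with hj
    · have := (hp (n - j)).smul (SetLike.coe_mem (DirectSum.decompose 𝒜 c j))
      rwa [Nat.add_sub_cancel' hj] at this
    · exact IsTw.zero n

lemma mem_allTw {p : Pol hg F} : p ∈ allTw hg F ↔ ∀ n, IsTw hg n (coef n p) := Iff.rfl

lemma sgl_mem_allTw {n : ℕ} {t : Fam g F} (ht : IsTw hg n t) : sgl hg F n t ∈ allTw hg F := fun k => by
  rw [coef_sgl]
  split_ifs with h
  · exact h ▸ ht
  · exact IsTw.zero k

variable (Q : Submodule A (Pol hg F))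

/-- A submodule of twisted sections stable under taking homogeneous components. -/
structure IsGradedSub : Prop where
  le : Q ≤ allTw hg F
  comp : ∀ p ∈ Q, ∀ n, sgl hg F n (coef n p) ∈ Q

/-- The homogeneous pieces. -/
def piece (n : ℕ) : AddSubgroup Q where
  carrier := {p | ∀ k, k ≠ n → coef k (p : Pol hg F) = 0}
  zero_mem' k _ := map_zero _
  add_mem' hp hq k hk := by rw [Submodule.coe_add, map_add, hp k hk, hq k hk, add_zero]
  neg_mem' hp k hk := by rw [Submodule.coe_neg, map_neg, hp k hk, neg_zero]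

lemma eq_sgl {n : ℕ} {p : Q} (hp : p ∈ piece Q n) : (p : Pol hg F) = sgl hg F n (coef n (p : Pol hg F)) := by
  refine ext_coef fun k => ?_
  rw [coef_sgl]
  split_ifs with h
  · rw [h]
  · exact hp k fun hk => h hk.symm

instance gradedSMul : SetLike.GradedSMul 𝒜 (piece Q) where
  smul_mem := fun {j n a p} ha hp k hk => by
    change coef k (a • (p : Pol hg F)) = 0
    rw [eq_sgl Q hp, sgl_smul ha, coef_sgl, if_neg (fun h => hk h.symm)]

variable {Q}

theorem isInternal (hQ : IsGradedSub Q) : DirectSum.IsInternal (piece Q) := by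
  classical
  refine ⟨(injective_iff_map_eq_zero _).2 fun x hx => ?_, fun p => ?_⟩
  · refine DFinsupp.ext fun n => ?_
    have h1 := congrArg (fun p : Q => coef n (p : Pol hg F)) hx
    simp only [ZeroMemClass.coe_zero, map_zero] at h1
    rw [DirectSum.coeAddMonoidHom_eq_dfinsuppSum, DFinsupp.sum, AddSubmonoidClass.coe_finsetSum,
      map_sum, Finset.sum_eq_single n] at h1
    · refine Subtype.ext (Subtype.ext ?_)
      rw [eq_sgl Q (x n).2, h1, map_zero]
      rfl
    · intro k _ hk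
      exact (x k).2 n (Ne.symm hk)
    · intro h
      rw [DFinsupp.notMem_support_iff.1 h]
      exact map_zero _
  · refine ⟨∑ n ∈ (PolynomialModule.coeff (p : Pol hg F)).support,
      DirectSum.of _ n ⟨⟨sgl hg F n (coef n (p : Pol hg F)), hQ.comp _ p.2 n⟩, fun k hk => ?_⟩, ?_⟩
    · show coef k (sgl hg F n _) = 0
      rw [coef_sgl, if_neg (Ne.symm hk)]
    · refine Subtype.ext (ext_coef fun k => ?_)
      simp only [map_sum, DirectSum.coeAddMonoidHom_of, AddSubmonoidClass.coe_finsetSum, coef_sgl,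
        Finset.sum_ite_eq', Finsupp.mem_support_iff]
      split_ifs with h
      · rfl
      · exact (not_not.1 h).symm

/-- The values of a graded submodule on the charts. -/
def vals (hQ : IsGradedSub Q) : Vals hg (piece Q) F where
  ev n i := ((Pi.evalAddMonoidHom _ i).comp (coef n)).comp Q.subtype.toAddMonoidHom
  smul j n a ha m _ i := by
    show coef (j + n) (a • (m : Pol hg F)) i = _
    rw [coef_smul ha, if_pos (Nat.le_add_right j n), Nat.add_sub_cancel_left]
    rfl
  compat n m _ i l W hi hl := hQ.le m.2 n i l W hi hl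

lemma vals_sep (hQ : IsGradedSub Q) (n : ℕ) (m : Q) (hm : m ∈ piece Q n)
    (h : ∀ l, (vals hQ).ev n l m = 0) : m = 0 := by
  refine Subtype.ext ?_
  rw [eq_sgl Q hm, show coef n (m : Pol hg F) = 0 from funext h, map_zero]
  rfl

theorem isGradedSub_allTw : IsGradedSub (allTw hg F) :=
  ⟨le_rfl, fun p hp n => sgl_mem_allTw (hp n)⟩

theorem isGradedSub_span {S : Set (Pol hg F)} (hS : S ⊆ allTw hg F)
    (hhom : ∀ p ∈ S, ∃ n t, p = sgl hg F n t) : IsGradedSub (Submodule.span A S) := by
  classical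
  refine ⟨Submodule.span_le.2 hS, fun p hp => ?_⟩
  induction hp using Submodule.span_induction with
  | mem p hp =>
    intro k
    obtain ⟨n, t, rfl⟩ := hhom p hp
    rw [coef_sgl]
    split_ifs with h
    · subst h; exact Submodule.subset_span hp
    · rw [map_zero]; exact zero_mem _
  | zero => intro k; rw [map_zero, map_zero]; exact zero_mem _
  | add a b _ _ ha hb => intro k; rw [map_add, map_add]; exact add_mem (ha k) (hb k)
  | smul c p _ hp =>
    intro k
    rw [← DirectSum.sum_support_decompose 𝒜 c, Finset.sum_smul, map_sum, map_sum]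
    refine Submodule.sum_mem _ fun j _ => ?_
    rw [coef_smul (SetLike.coe_mem _)]
    split_ifs with hj
    · have h := Submodule.smul_mem _ (DirectSum.decompose 𝒜 c j : A) (hp (k - j))
      rwa [sgl_smul (SetLike.coe_mem _), Nat.add_sub_cancel' hj] at h
    · rw [map_zero]; exact zero_mem _

/-- Every section on a chart is, up to a twist, a twisted section. -/
theorem exists_isTw [Finite ι] (hF : Coh.IsQCoh F) (i : ι) (v : Γ(F, Proj.basicOpen 𝒜 (g i))) :
    ∃ (n : ℕ) (t : Fam g F), IsTw hg n t ∧ t i = v := by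
  classical
  haveI := Fintype.ofFinite ι
  let r : ∀ j, Γ(Proj 𝒜, Proj.basicOpen 𝒜 (g j)) := fun j => frac 𝒜 (hg j) le_rfl (hg i)
  have hbr : ∀ j, (Proj 𝒜).basicOpen (r j) ≤ Proj.basicOpen 𝒜 (g i) := fun j => by
    rw [basicOpen_frac]; exact ProjectiveSpectrum.basicOpen_mul_le_right 𝒜 _ _
  choose N a ha using fun j => QCoh.exists_pow_smul_eq_map hF
    (Proj.isAffineOpen_basicOpen 𝒜 _ (hg j) one_pos) (r j) (AModX.res F (hbr j) v)
  let N₀ := ∑ j, N j
  let a' : Fam g F := fun j => r j ^ (N₀ - N j) • a j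
  have ha' : ∀ j, AModX.res F ((Proj 𝒜).basicOpen_le (r j)) (a' j) =
      resR ((Proj 𝒜).basicOpen_le (r j)) (r j) ^ N₀ • AModX.res F (hbr j) v := fun j => by
    have h : AModX.res F ((Proj 𝒜).basicOpen_le (r j)) (a j) =
      resR ((Proj 𝒜).basicOpen_le (r j)) (r j) ^ N j • AModX.res F (hbr j) v := ha j
    rw [res_smul, h, map_pow, ← mul_smul, ← pow_add,
      Nat.sub_add_cancel (Finset.single_le_sum (f := N) (fun _ _ => Nat.zero_le _) (Finset.mem_univ j))]
  clear_value a' N₀
  clear ha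
  have hd : ∀ jk : ι × ι, ∃ L, ∀ (W : (Proj 𝒜).Opens) (h1 : W ≤ Proj.basicOpen 𝒜 (g jk.1))
      (h2 : W ≤ Proj.basicOpen 𝒜 (g jk.2)), frac 𝒜 (hg jk.1) h1 (hg i) ^ L •
        (AModX.res F h1 (a' jk.1) - frac 𝒜 (hg jk.1) h1 (hg jk.2) ^ N₀ • AModX.res F h2 (a' jk.2)) = 0 := by
    rintro ⟨j, k⟩
    let W₀ : (Proj 𝒜).Opens := Proj.basicOpen 𝒜 (g j * g k)
    have h₁ : W₀ ≤ Proj.basicOpen 𝒜 (g j) := ProjectiveSpectrum.basicOpen_mul_le_left 𝒜 _ _
    have h₂ : W₀ ≤ Proj.basicOpen 𝒜 (g k) := ProjectiveSpectrum.basicOpen_mul_le_right 𝒜 _ _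
    let δ := AModX.res F h₁ (a' j) - frac 𝒜 (hg j) h₁ (hg k) ^ N₀ • AModX.res F h₂ (a' k)
    obtain ⟨L, hL⟩ := QCoh.exists_pow_smul_eq_zero hF
      (Proj.isAffineOpen_basicOpen 𝒜 _ (SetLike.mul_mem_graded (hg j) (hg k)) (by norm_num))
      (frac 𝒜 (hg j) h₁ (hg i)) δ (by
        let O := (Proj 𝒜).basicOpen (frac 𝒜 (hg j) h₁ (hg i))
        have hO : O ≤ W₀ := (Proj 𝒜).basicOpen_le _
        have hOi : O ≤ Proj.basicOpen 𝒜 (g i) := by
          refine le_trans ?_ (hbr j)
          show (Proj 𝒜).basicOpen (resR h₁ (r j)) ≤ _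
          exact ((Proj 𝒜).basicOpen_res _ _).le.trans inf_le_right
        have hOj : O ≤ (Proj 𝒜).basicOpen (r j) := by
          rw [basicOpen_frac]
          exact fun y hy => fun hh => (y.isPrime.mem_or_mem hh).elim ((hO.trans h₁) hy) (hOi hy)
        have hOk : O ≤ (Proj 𝒜).basicOpen (r k) := by
          rw [basicOpen_frac]
          exact fun y hy => fun hh => (y.isPrime.mem_or_mem hh).elim ((hO.trans h₂) hy) (hOi hy)
        show AModX.res F hO δ = 0
        rw [map_sub, res_smul, map_pow, res_frac, res_res, res_res,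
          ← res_res ((Proj 𝒜).basicOpen_le (r j)) hOj, ha' j,
          ← res_res ((Proj 𝒜).basicOpen_le (r k)) hOk, ha' k]
        simp only [res_smul, map_pow, res_res, r, res_frac, ← mul_smul, ← mul_pow]
        rw [sub_eq_zero]
        congr 2
        exact (frac_trans 𝒜 (hg j) (hg k) (hO.trans h₁) (hO.trans h₂) (hg i)).trans (by rw [pow_one]))
    refine ⟨L, fun W h1 h2 => ?_⟩
    have hW : W ≤ W₀ := fun y hy hh => (y.isPrime.mem_or_mem hh).elim (h1 hy) (h2 hy)
    have := congrArg (AModX.res F hW) hL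
    simpa only [δ, res_smul, map_pow, map_sub, res_res, res_frac, map_zero] using this
  choose L hL using hd
  let L₀ := ∑ p, L p
  refine ⟨N₀ + L₀, fun j => r j ^ L₀ • a' j, fun j k W hj hk => ?_, ?_⟩
  · obtain ⟨q, hq⟩ := Nat.exists_eq_add_of_le'
      (Finset.single_le_sum (f := L) (fun _ _ => Nat.zero_le _) (Finset.mem_univ (j, k)))
    have h0 : frac 𝒜 (hg j) hj (hg i) ^ L₀ •
        (AModX.res F hj (a' j) - frac 𝒜 (hg j) hj (hg k) ^ N₀ • AModX.res F hk (a' k)) = 0 := by
      rw [show L₀ = q + L (j, k) from hq, pow_add, mul_smul, hL (j, k) W hj hk, smul_zero]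
    rw [smul_sub, sub_eq_zero] at h0
    simp only [res_smul, map_pow, r, res_frac]
    rw [h0, ← mul_smul, ← mul_smul]
    congr 1
    rw [frac_trans 𝒜 (hg j) (hg k) hj hk (hg i), pow_one, mul_pow, pow_add]
    ring
  · show r i ^ L₀ • a' i = v
    have hr : r i = 1 := frac_self 𝒜 (hg i) le_rfl
    have hD : Proj.basicOpen 𝒜 (g i) ≤ (Proj 𝒜).basicOpen (r i) := by
      rw [hr, Scheme.basicOpen_of_isUnit _ isUnit_one]
    have := congrArg (AModX.res F hD) (ha' i)
    rw [res_res, res_self, res_smul, map_pow, resR_resR, resR_self, res_res, res_self, hr, one_pow, one_smul] at this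
    rw [hr, one_pow, one_smul, this]

end Groth.Agent.Eg2Gamma
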